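import Groth.Prelude.Def_EtRam
import Mathlib.RingTheory.Valuation.LocalSubring
import Mathlib.RingTheory.Flat.TorsionFree
import Mathlib.RingTheory.Ideal.GoingDown
import Mathlib.RingTheory.TensorProduct.Basic
import Mathlib.RingTheory.DiscreteValuationRing.Basic
import Mathlib.LinearAlgebra.TensorProduct.Basis

/-!
# Compatible valuation rings in a compositum over a discrete valuation ring
-/

set_option autoImplicit false
set_option linter.unusedSectionVars false
set_option linter.style.haveILetI false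
universe u

open TensorProduct IsLocalRing

namespace GrothLib.DVRExt

variable {B : Type u} [CommRing B] [IsDomain B] [IsDiscreteValuationRing B]

theorem flat_of_injective {C : Type u} [CommRing C] [IsDomain C] [Algebra B C]
    (h : Function.Injective (algebraMap B C)) : Module.Flat B C := by
  rw [Module.Flat.flat_iff_torsion_eq_bot_of_isBezout, ← Submodule.isTorsionFree_iff_torsion_eq_bot,
    Module.isTorsionFree_iff_algebraMap_injective]
  exact h

variable {C W : Type u} [CommRing C] [IsDomain C] [Algebra B C] [CommRing W] [IsDomain W] [Algebra B W]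

theorem includeLeft_mem_minimal [Module.Flat B W] {P : Ideal (C ⊗[B] W)} [P.IsPrime]
    (hmin : ∀ Q : Ideal (C ⊗[B] W), Q.IsPrime → Q ≤ P → P ≤ Q) {c : C} (hc : c ⊗ₜ[B] (1 : W) ∈ P) : c = 0 := by
  have : (P.under C).IsPrime := inferInstance
  obtain ⟨Q, hQ, hQp, hQo⟩ := Ideal.exists_ideal_le_liesOver_of_le (R := C) (p := (⊥ : Ideal C))
    (q := P.under C) P bot_le
  have h2 : c ∈ Q.under C := hmin Q hQp hQ hc
  rwa [← hQo.over, Ideal.mem_bot] at h2

theorem exists_prime_pair [IsLocalRing C] [IsLocalRing W] [IsLocalHom (algebraMap B C)]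
    [IsLocalHom (algebraMap B W)]
    (hC : Function.Injective (algebraMap B C)) (hW : Function.Injective (algebraMap B W)) :
    ∃ P₀ P : Ideal (C ⊗[B] W), P₀.IsPrime ∧ P.IsPrime ∧ P₀ ≤ P ∧
      (∀ c : C, c ⊗ₜ[B] (1 : W) ∈ P₀ → c = 0) ∧ (∀ w : W, (1 : C) ⊗ₜ[B] w ∈ P₀ → w = 0) ∧
      (∀ c ∈ maximalIdeal C, c ⊗ₜ[B] (1 : W) ∈ P) ∧ (∀ w ∈ maximalIdeal W, (1 : C) ⊗ₜ[B] w ∈ P) := by
  have := flat_of_injective (C := C) hC
  have := flat_of_injective (C := W) hW
  let R := ResidueField C ⊗[ResidueField B] ResidueField W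
  have : Nontrivial R := inferInstance
  let f₁ : C →ₐ[B] R := ((Algebra.TensorProduct.includeLeft (R := ResidueField B) (S := ResidueField B)
    (B := ResidueField W)).restrictScalars B).comp (IsScalarTower.toAlgHom B C (ResidueField C))
  let f₂ : W →ₐ[B] R := ((Algebra.TensorProduct.includeRight (R := ResidueField B)
    (A := ResidueField C)).restrictScalars B).comp (IsScalarTower.toAlgHom B W (ResidueField W))
  let Ψ : C ⊗[B] W →ₐ[B] R := Algebra.TensorProduct.lift f₁ f₂ fun _ _ => mul_comm _ _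
  obtain ⟨M, hM⟩ := Ideal.exists_maximal R
  let P := M.comap Ψ
  have hP : P.IsPrime := Ideal.comap_isPrime Ψ M
  obtain ⟨P₀, hP₀, hle⟩ := Ideal.exists_minimalPrimes_le (I := (⊥ : Ideal (C ⊗[B] W))) (J := P) bot_le
  have hP₀p : P₀.IsPrime := hP₀.1.1
  have hmin : ∀ Q : Ideal (C ⊗[B] W), Q.IsPrime → Q ≤ P₀ → P₀ ≤ Q := fun Q hQ h => hP₀.2 ⟨hQ, bot_le⟩ h
  refine ⟨P₀, P, hP₀p, hP, hle, fun c hc => includeLeft_mem_minimal hmin hc, fun w hw => ?_,
    fun c hc => ?_, fun w hw => ?_⟩
  · let σ := Algebra.TensorProduct.comm B W C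
    have : (P₀.comap σ).IsPrime := Ideal.comap_isPrime σ P₀
    refine includeLeft_mem_minimal (P := P₀.comap σ) (fun Q hQ h => ?_) (c := w) (by simpa [σ] using hw)
    have hQ' : (Q.comap σ.symm).IsPrime := Ideal.comap_isPrime σ.symm Q
    have h1 := hmin (Q.comap σ.symm) hQ' (fun x hx => by simpa using h (show σ.symm x ∈ Q from hx))
    intro x hx
    have h2 : σ.symm (σ x) ∈ Q := h1 hx
    simpa using h2
  · show Ψ _ ∈ M
    rw [Algebra.TensorProduct.lift_tmul, map_one, mul_one]
    show (residue C c) ⊗ₜ[ResidueField B] (1 : ResidueField W) ∈ M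
    rw [residue_eq_zero_iff c |>.mpr hc, zero_tmul]
    exact M.zero_mem
  · show Ψ _ ∈ M
    rw [Algebra.TensorProduct.lift_tmul, map_one, one_mul]
    show (1 : ResidueField C) ⊗ₜ[ResidueField B] (residue W w) ∈ M
    rw [residue_eq_zero_iff w |>.mpr hw, tmul_zero]
    exact M.zero_mem

omit [IsDomain B] [IsDiscreteValuationRing B] in
theorem mem_of_dominated {M : Type u} [Field M] {W V : ValuationSubring M} (hle : W ≤ V)
    (hlt : ∀ x : W, x ∈ maximalIdeal W → V.valuation (x : M) < 1) : V = W := by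
  refine le_antisymm (fun z hz => ?_) hle
  rcases W.mem_or_inv_mem z with h | h
  · exact h
  by_cases hu : IsUnit (⟨z⁻¹, h⟩ : W)
  · obtain ⟨w, hw⟩ := isUnit_iff_exists_inv.mp hu
    have h1 : z⁻¹ * (w : M) = 1 := congrArg Subtype.val hw
    have hz0 : z⁻¹ ≠ 0 := left_ne_zero_of_mul_eq_one h1
    have : (w : M) = z := by
      rw [eq_inv_of_mul_eq_one_right h1, inv_inv]
    exact this ▸ w.2
  · by_cases hz0 : z = 0
    · exact hz0 ▸ W.zero_mem
    have h1 : V.valuation z⁻¹ < 1 := hlt ⟨_, h⟩ hu
    have h2 := (V.valuation_le_one_iff z).mpr hz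
    have h3 : V.valuation z * V.valuation z⁻¹ = 1 := by rw [← map_mul, mul_inv_cancel₀ hz0, map_one]
    exact absurd h3 ((mul_le_mul' h2 le_rfl).trans_lt (by rwa [one_mul])).ne

variable {L M₀ : Type u} [Field L] [Field M₀] [Algebra B L] [IsFractionRing B L] [Algebra C M₀]
  [IsFractionRing C M₀] [Algebra L M₀] [Algebra B M₀] [IsScalarTower B C M₀] [IsScalarTower B L M₀]

omit [IsDiscreteValuationRing B] [IsDomain B] [IsFractionRing B L] [IsFractionRing C M₀] [IsDomain C] in
theorem algebraMap_square (b : B) :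
    algebraMap L M₀ (algebraMap B L b) = algebraMap C M₀ (algebraMap B C b) := by
  rw [← IsScalarTower.algebraMap_apply, ← IsScalarTower.algebraMap_apply]

theorem exists_compositum [IsLocalRing C] [IsLocalHom (algebraMap B C)]
    (hC : Function.Injective (algebraMap B C)) {M : Type u} [Field M] [Algebra L M] (W : ValuationSubring M)
    (hdom : EtRam.Dominates B ((algebraMap L M).comp (algebraMap B L)) W) :
    ∃ (Ω : Type u) (_ : Field Ω) (iM : M →+* Ω) (i0 : M₀ →+* Ω) (V : ValuationSubring Ω),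
      iM.comp (algebraMap L M) = i0.comp (algebraMap L M₀) ∧ V.comap iM = W ∧
        EtRam.Dominates C (i0.comp (algebraMap C M₀)) V := by
  let _ : Algebra B W := (((algebraMap L M).comp (algebraMap B L)).codRestrict W.toSubring hdom.1).toAlgebra
  have hWloc : IsLocalHom (algebraMap B W) := by
    constructor
    intro b hb
    by_contra hnb
    exact (W.valuation_eq_one_iff _).mp hb |>.not_lt (hdom.2 b hnb)
  have hWinj : Function.Injective (algebraMap B W) := fun x y h =>
    IsFractionRing.injective B L ((algebraMap L M).injective (congrArg Subtype.val h))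
  obtain ⟨P₀, P, hP₀, hP, hle, hkC, hkW, hmC, hmW⟩ := exists_prime_pair (C := C) (W := W) hC hWinj
  let Ω := FractionRing ((C ⊗[B] W) ⧸ P₀)
  let φ : C ⊗[B] W →+* Ω := (algebraMap _ Ω).comp (Ideal.Quotient.mk P₀)
  have hφ : ∀ t, φ t = 0 ↔ t ∈ P₀ := fun t => by
    rw [← Ideal.Quotient.eq_zero_iff_mem]
    exact map_eq_zero_iff _ (IsFractionRing.injective ((C ⊗[B] W) ⧸ P₀) Ω)
  let ψ : Localization.AtPrime P →+* Ω :=
    IsLocalization.lift (M := P.primeCompl) (g := φ) fun y => isUnit_iff_ne_zero.mpr fun h =>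
      y.2 (hle ((hφ _).mp h))
  obtain ⟨V, hV, hVloc⟩ := IsLocalRing.exists_factor_valuationRing ψ
  have hVφ : ∀ t, φ t ∈ V := fun t => by
    have := hV (algebraMap _ (Localization.AtPrime P) t)
    rwa [IsLocalization.lift_eq] at this
  have hVP : ∀ t ∈ P, V.valuation (φ t) < 1 := fun t ht => by
    refine (V.valuation_lt_one_iff ⟨_, hVφ t⟩).mp fun hu => ?_
    have h1 : IsUnit (algebraMap _ (Localization.AtPrime P) t) := by
      refine hVloc.map_nonunit _ ?_
      convert hu using 1
      exact Subtype.ext (IsLocalization.lift_eq _ t)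
    exact (IsLocalization.AtPrime.isUnit_to_map_iff (Localization.AtPrime P) P t).mp h1 ht
  let φC : C →+* Ω := φ.comp Algebra.TensorProduct.includeLeftRingHom
  let φW : W →+* Ω := φ.comp (Algebra.TensorProduct.includeRight (R := B) (A := C)).toRingHom
  have hiC : Function.Injective φC := (injective_iff_map_eq_zero _).mpr fun c hc => hkC c ((hφ _).mp hc)
  have hiW : Function.Injective φW := (injective_iff_map_eq_zero _).mpr fun w hw => hkW w ((hφ _).mp hw)
  let i0 : M₀ →+* Ω := IsFractionRing.lift hiC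
  let iM : M →+* Ω := IsFractionRing.lift (A := W) (K := M) hiW
  have hi0 : ∀ c, i0 (algebraMap C M₀ c) = φ (c ⊗ₜ 1) := fun c => IsFractionRing.lift_algebraMap _ c
  have hiM : ∀ w : W, iM (w : M) = φ (1 ⊗ₜ w) := fun w =>
    IsFractionRing.lift_algebraMap (A := W) (K := M) hiW w
  refine ⟨Ω, inferInstance, iM, i0, V, ?_, ?_, ?_⟩
  · refine IsLocalization.ringHom_ext (nonZeroDivisors B) (RingHom.ext fun b => ?_)
    simp only [RingHom.comp_apply]
    rw [algebraMap_square (C := C) (M₀ := M₀) b, hi0,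
      show algebraMap L M (algebraMap B L b) = ((algebraMap B W b : W) : M) from rfl, hiM]
    congr 1
    rw [← Algebra.TensorProduct.algebraMap_apply, Algebra.TensorProduct.algebraMap_apply']
  · refine mem_of_dominated (fun x hx => ?_) fun x hx => ?_
    · show iM x ∈ V
      rw [show x = ((⟨x, hx⟩ : W) : M) from rfl, hiM]
      exact hVφ _
    · have h1 := hVP _ (hmW x hx)
      rw [← hiM] at h1
      refine lt_of_le_of_ne (((V.comap iM).valuation_le_one_iff _).mpr ?_) fun h => ?_
      · show iM (x : M) ∈ V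
        rw [hiM]; exact hVφ _
      · have h2 : (V.comap iM).valuation ((x : M)⁻¹) ≤ 1 := by rw [map_inv₀, h, inv_one]
        have h3 : iM ((x : M)⁻¹) ∈ V := ((V.comap iM).valuation_le_one_iff _).mp h2
        rw [map_inv₀] at h3
        by_cases hx0 : iM (x : M) = 0
        · rw [map_eq_zero] at hx0; rw [hx0, map_zero] at h; exact zero_ne_one h
        have h4 : V.valuation (iM (x : M)) * V.valuation ((iM (x : M))⁻¹) = 1 := by
          rw [← map_mul, mul_inv_cancel₀ hx0, map_one]
        exact absurd h4 ((mul_le_mul' le_rfl ((V.valuation_le_one_iff _).mpr h3)).trans_lt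
          (by rwa [mul_one])).ne
  · refine ⟨fun c => ?_, fun c hc => ?_⟩
    · rw [RingHom.comp_apply, hi0]; exact hVφ _
    · rw [RingHom.comp_apply, hi0]; exact hVP _ (hmC c hc)

section Descent

variable {K₁ M M' : Type u} [Field K₁] [Field M] [Field M']

theorem exists_dvd_of_mem_map {R S : Type u} [CommRing R] [CommRing S] [IsDomain S] [ValuationRing S]
    (f : R →+* S) {I : Ideal R} {x : S} (hx : x ∈ I.map f) : ∃ a ∈ I, f a ∣ x := by
  refine Submodule.span_induction ?_ ?_ ?_ ?_ hx
  · rintro _ ⟨a, ha, rfl⟩; exact ⟨a, ha, dvd_rfl⟩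
  · exact ⟨0, I.zero_mem, by simp⟩
  · rintro x y - - ⟨a, ha, hax⟩ ⟨b, hb, hby⟩
    rcases ValuationRing.dvd_total (f a) (f b) with h | h
    · exact ⟨a, ha, dvd_add hax (h.trans hby)⟩
    · exact ⟨b, hb, dvd_add (h.trans hax) hby⟩
  · rintro c x - ⟨a, ha, hax⟩
    exact ⟨a, ha, hax.mul_left c⟩

theorem weaklyUnramified_descend (f : K₁ →+* M) (j : M →+* M') (W' : ValuationSubring M')
    (h : letI := (EtRam.inclOfComap W' (j.comp f)).toAlgebra
      EtRam.IsWeaklyUnramified (W'.comap (j.comp f)) W') :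
    letI := (EtRam.inclOfComap (W'.comap j) f).toAlgebra
    EtRam.IsWeaklyUnramified ((W'.comap j).comap f) (W'.comap j) := by
  show (maximalIdeal ((W'.comap j).comap f)).map (EtRam.inclOfComap (W'.comap j) f) = maximalIdeal (W'.comap j)
  refine le_antisymm (((local_hom_TFAE _).out 0 2 rfl rfl).mp inferInstance) fun x hx => ?_
  have hx' : EtRam.inclOfComap W' j x ∈ maximalIdeal W' := fun hu => hx (IsUnit.of_map (EtRam.inclOfComap W' j) _ hu)
  have h' : (maximalIdeal (W'.comap (j.comp f))).map (EtRam.inclOfComap W' (j.comp f)) = maximalIdeal W' := h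
  rw [← h'] at hx'
  obtain ⟨a, ha, w, hw⟩ := exists_dvd_of_mem_map _ hx'
  by_cases ha0 : f (a : K₁) = 0
  · have h0 : x = 0 := by
      refine Subtype.ext (j.injective ?_)
      have h1 : j (x : M) = j (f (a : K₁)) * (w : M') := congrArg Subtype.val hw
      rw [h1, ha0, map_zero, zero_mul]
      exact (map_zero j).symm
    rw [h0]
    exact Ideal.zero_mem _
  · have h1 : j (x : M) = j (f (a : K₁)) * (w : M') := congrArg Subtype.val hw
    have h2 : (f (a : K₁))⁻¹ * (x : M) ∈ W'.comap j := by
      show j _ ∈ W'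
      rw [map_mul, map_inv₀, h1, inv_mul_cancel_left₀ (by simpa using ha0)]
      exact w.2
    have h3 : x = EtRam.inclOfComap (W'.comap j) f ⟨(a : K₁), a.2⟩ * ⟨_, h2⟩ :=
      Subtype.ext (mul_inv_cancel_left₀ ha0 (x : M)).symm
    rw [h3]
    exact Ideal.mul_mem_right _ _ (Ideal.mem_map_of_mem _ ha)

theorem geomReduced_descend (f : K₁ →+* M) (j : M →+* M') (W' : ValuationSubring M')
    (h : @Algebra.IsGeometricallyReduced (ResidueField (W'.comap (j.comp f))) (ResidueField W') _ _
      (ResidueField.map (EtRam.inclOfComap W' (j.comp f))).toAlgebra) :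
    @Algebra.IsGeometricallyReduced (ResidueField ((W'.comap j).comap f)) (ResidueField (W'.comap j)) _ _
      (ResidueField.map (EtRam.inclOfComap (W'.comap j) f)).toAlgebra := by
  letI a1 : Algebra (ResidueField ((W'.comap j).comap f)) (ResidueField (W'.comap j)) :=
    (ResidueField.map (EtRam.inclOfComap (W'.comap j) f)).toAlgebra
  letI a2 : Algebra (ResidueField ((W'.comap j).comap f)) (ResidueField W') :=
    (ResidueField.map (EtRam.inclOfComap W' (j.comp f))).toAlgebra
  haveI : Algebra.IsGeometricallyReduced (ResidueField ((W'.comap j).comap f)) (ResidueField W') := h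
  let F : ResidueField (W'.comap j) →ₐ[ResidueField ((W'.comap j).comap f)] ResidueField W' :=
    { ResidueField.map (EtRam.inclOfComap W' j) with
      commutes' := fun r => by
        obtain ⟨r, rfl⟩ := residue_surjective r
        rfl }
  exact Algebra.IsGeometricallyReduced.of_injective F (RingHom.injective (ResidueField.map (EtRam.inclOfComap W' j)))

end Descent

end GrothLib.DVRExt
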