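import Groth.Agent.Lib.DVRExt.Ramification
import Groth.Agent.Lib.DVRDom.KrullAkizuki
import Mathlib.RingTheory.Algebraic.Integral
import Mathlib.RingTheory.Ideal.GoingUp

/-!
# Valuation subrings of a finite, possibly inseparable, extension dominating a DVR
-/

set_option autoImplicit false
universe u

open IsLocalRing

namespace GrothLib.DVRExt

variable (A : Type u) [CommRing A] [IsDomain A] [IsDiscreteValuationRing A] (K : Type u) [Field K]
  [Algebra A K] [IsFractionRing A K] (L : Type u) [Field L] [Algebra K L] [FiniteDimensional K L]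

theorem isDiscreteValuationRing_of_dominates (V : ValuationSubring L)
    (h : EtRam.Dominates A ((algebraMap K L).comp (algebraMap A K)) V) : IsDiscreteValuationRing V := by
  let _ : Algebra A L := ((algebraMap K L).comp (algebraMap A K)).toAlgebra
  have : IsScalarTower A K L := .of_algebraMap_eq' rfl
  have hAL : Function.Injective (algebraMap A L) :=
    (algebraMap K L).injective.comp (IsFractionRing.injective A K)
  have halg : Algebra.IsAlgebraic A L := (IsFractionRing.comap_isAlgebraic_iff (A := A) (K := K) (C := L)).mpr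
    (Algebra.IsAlgebraic.of_finite K L)
  classical
  let b : Module.Basis (Fin (Module.finrank K L)) K L := Module.finBasis K L
  have hmul : ∀ i, ∃ a : A, a ≠ 0 ∧ IsIntegral A (a • b i) := fun i =>
    (halg.isAlgebraic (b i)).exists_integral_multiple (R := A)
  choose a ha0 ha using hmul
  let R := Algebra.adjoin A (Set.range fun i => a i • b i)
  have : Module.Finite A R := by
    refine (Module.Finite.iff_fg (N := Subalgebra.toSubmodule R)).mpr ?_
    refine fg_adjoin_of_finite (Set.finite_range _) ?_
    rintro _ ⟨i, rfl⟩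
    exact ha i
  have : IsNoetherianRing R := IsNoetherianRing.of_finite A R
  have : Algebra.IsIntegral A R := Algebra.IsIntegral.of_finite A R
  have : Ring.DimensionLEOne R := ⟨fun {p} hp0 hp => by
    have hne : p.comap (algebraMap A R) ≠ ⊥ := fun h => hp0 (Ideal.eq_bot_of_comap_eq_bot h)
    exact Ideal.isMaximal_of_isIntegral_of_isMaximal_comap p
      (((Ideal.comap_isPrime (algebraMap A R) p).isMaximal hne))⟩
  have : IsFractionRing R L := by
    refine IsFractionRing.of_field R L fun z => ?_
    have hz : z ∈ Submodule.span K (Set.range b) := b.span_eq ▸ Submodule.mem_top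
    suffices ∃ c : A, c ≠ 0 ∧ c • z ∈ R by
      obtain ⟨c, hc0, hc⟩ := this
      refine ⟨⟨_, hc⟩, algebraMap A R c, ?_⟩
      show z = (c • z : L) / algebraMap A L c
      rw [eq_div_iff fun h => hc0 (hAL (by rw [h, map_zero])), Algebra.smul_def, mul_comm]
    induction hz using Submodule.span_induction with
    | mem x hx =>
      obtain ⟨i, rfl⟩ := hx
      exact ⟨a i, ha0 i, Algebra.subset_adjoin ⟨i, rfl⟩⟩
    | zero => exact ⟨1, one_ne_zero, by rw [smul_zero]; exact R.zero_mem⟩
    | add x y _ _ hx hy =>
      obtain ⟨c, hc0, hc⟩ := hx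
      obtain ⟨d, hd0, hd⟩ := hy
      refine ⟨c * d, mul_ne_zero hc0 hd0, ?_⟩
      rw [smul_add]
      refine R.add_mem ?_ ?_
      · rw [mul_comm, mul_smul]; exact R.smul_mem hc d
      · rw [mul_smul]; exact R.smul_mem hd c
    | smul r x _ hx =>
      obtain ⟨c, hc0, hc⟩ := hx
      obtain ⟨p, q, hq, hpq⟩ := IsFractionRing.div_surjective (A := A) r
      refine ⟨q * c, mul_ne_zero (nonZeroDivisors.ne_zero hq) hc0, ?_⟩
      have e : (q * c) • r • x = p • (c • x) := by
        rw [← hpq, Algebra.smul_def, Algebra.smul_def, Algebra.smul_def, Algebra.smul_def,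
          map_div₀, ← IsScalarTower.algebraMap_apply, ← IsScalarTower.algebraMap_apply, map_mul]
        have hq0 : algebraMap A L q ≠ 0 := fun h => nonZeroDivisors.ne_zero hq (hAL (by rw [h, map_zero]))
        field_simp
      rw [e]
      exact R.smul_mem hc p
  refine GrothLib.DVRDom.isDiscreteValuationRing_valuationSubring (R := R) V (fun r => ?_) ?_
  · obtain ⟨p, hp, hp0⟩ := (Algebra.IsIntegral.isIntegral (R := A) r).algebraMap (B := L)
    have hint : IsIntegral V (algebraMap R L r) := by
      refine ⟨p.map (((algebraMap K L).comp (algebraMap A K)).codRestrict V.toSubring h.1), hp.map _, ?_⟩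
      rw [Polynomial.eval₂_map]; exact hp0
    obtain ⟨v, hv⟩ := IsIntegrallyClosed.isIntegral_iff.mp hint
    show (r : L) ∈ V
    exact (show (v : L) = (r : L) from hv) ▸ v.2
  · rintro rfl
    obtain ⟨ϖ, hϖ⟩ := IsDiscreteValuationRing.exists_irreducible A
    have h1 := h.2 ϖ hϖ.not_isUnit
    have h0 : (⊤ : ValuationSubring L).valuation ((algebraMap K L).comp (algebraMap A K) ϖ) ≠ 0 := by
      rw [Valuation.ne_zero_iff]
      exact fun h => hϖ.ne_zero (hAL (by rw [map_zero]; exact h))
    have h2 : (⊤ : ValuationSubring L).valuation (((algebraMap K L).comp (algebraMap A K) ϖ)⁻¹) ≤ 1 :=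
      ((⊤ : ValuationSubring L).valuation_le_one_iff _).mpr trivial
    rw [map_inv₀] at h2
    exact absurd (mul_inv_cancel₀ h0) ((mul_le_mul' le_rfl h2).trans_lt (by rwa [mul_one])).ne

end GrothLib.DVRExt
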