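import Groth.Agent.Lib.DVRExt.Ramification

/-!
# Powers of a uniformizer are linearly independent over the smaller DVR
-/

set_option autoImplicit false
universe u

namespace GrothLib.DVRExt

open IsLocalRing in
theorem linearIndependent_mul_pow {A B : Type u} [CommRing A] [IsDomain A] [IsDiscreteValuationRing A]
    [CommRing B] [IsDomain B] [IsDiscreteValuationRing B] [Algebra A B] [IsLocalHom (algebraMap A B)]
    (hinj : Function.Injective (algebraMap A B)) {ι : Type u} [Fintype ι] (b : ι → B)
    (hb : LinearIndependent (ResidueField A) (fun i => residue B (b i))) {ϖ : B} (hϖ : Irreducible ϖ) :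
    LinearIndependent A (fun x : Fin (Ideal.ramificationIdx' (maximalIdeal A) (maximalIdeal B)) × ι =>
      b x.2 * ϖ ^ (x.1 : ℕ)) := by
  classical
  obtain ⟨-, he⟩ := GrothLib.DVRExt.map_maximalIdeal_eq_pow (A := A) (B := B) hinj
  obtain ⟨ϖA, hA⟩ := IsDiscreteValuationRing.exists_irreducible A
  generalize Ideal.ramificationIdx' (maximalIdeal A) (maximalIdeal B) = e at he ⊢
  have key : ∀ g : Fin e × ι → A, ∑ x, g x • (b x.2 * ϖ ^ (x.1 : ℕ)) = 0 → ∀ x, g x ∈ maximalIdeal A := by
    intro g hg
    suffices ∀ (k : ℕ) (x : Fin e × ι), (x.1 : ℕ) = k → g x ∈ maximalIdeal A from fun x => this _ x rfl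
    intro k
    induction k using Nat.strong_induction_on with
    | _ k ih =>
      intro x hx
      have hk : k < e := hx ▸ x.1.2
      have hsum : ∑ i, algebraMap A B (g (⟨k, hk⟩, i)) * b i ∈ maximalIdeal B := by
        have hmem : ∑ y : Fin e × ι, (if y.1 = ⟨k, hk⟩ then (0 : B) else g y • (b y.2 * ϖ ^ (y.1 : ℕ))) ∈
            Ideal.span {ϖ ^ (k + 1)} := by
          refine Ideal.sum_mem _ fun y _ => ?_
          split
          · exact Ideal.zero_mem _
          · rename_i hy
            rw [Algebra.smul_def]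
            rcases lt_or_gt_of_ne (fun h : (y.1 : ℕ) = k => hy (Fin.ext h)) with hlt | hgt
            · have h1 : algebraMap A B (g y) ∈ maximalIdeal B ^ e := he ▸ Ideal.mem_map_of_mem _ (ih _ hlt y rfl)
              rw [hϖ.maximalIdeal_eq, Ideal.span_singleton_pow] at h1
              exact Ideal.mul_mem_right _ _ ((Ideal.span_singleton_le_span_singleton.mpr (pow_dvd_pow ϖ hk)) h1)
            · exact Ideal.mem_span_singleton.mpr (((pow_dvd_pow ϖ hgt).mul_left _).mul_left _)
        have hsplit : ∑ y : Fin e × ι, g y • (b y.2 * ϖ ^ (y.1 : ℕ)) =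
            (∑ i, algebraMap A B (g (⟨k, hk⟩, i)) * b i) * ϖ ^ k +
              ∑ y : Fin e × ι, (if y.1 = ⟨k, hk⟩ then (0 : B) else g y • (b y.2 * ϖ ^ (y.1 : ℕ))) := by
          have e1 : (∑ i, algebraMap A B (g (⟨k, hk⟩, i)) * b i) * ϖ ^ k =
              ∑ y : Fin e × ι, (if y.1 = ⟨k, hk⟩ then g y • (b y.2 * ϖ ^ (y.1 : ℕ)) else 0) := by
            rw [Fintype.sum_prod_type, Finset.sum_eq_single (⟨k, hk⟩ : Fin e), Finset.sum_mul]
            · refine Finset.sum_congr rfl fun i _ => ?_
              rw [if_pos rfl, Algebra.smul_def, mul_assoc]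
            · intro j _ hj
              exact Finset.sum_eq_zero fun i _ => if_neg hj
            · simp
          rw [e1, ← Finset.sum_add_distrib]
          refine Finset.sum_congr rfl fun y _ => ?_
          split <;> simp
        rw [hg] at hsplit
        rw [eq_neg_of_add_eq_zero_right hsplit.symm, Ideal.neg_mem_iff, Ideal.mem_span_singleton, pow_succ,
          mul_comm _ (ϖ ^ k), mul_dvd_mul_iff_left (pow_ne_zero _ hϖ.ne_zero)] at hmem
        rw [hϖ.maximalIdeal_eq, Ideal.mem_span_singleton]
        exact hmem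
      have h2 : ∑ i, residue A (g (⟨k, hk⟩, i)) • residue B (b i) = 0 := by
        rw [← residue_eq_zero_iff, map_sum] at hsum
        refine Eq.trans (Finset.sum_congr rfl fun i _ => ?_) hsum
        rw [map_mul, Algebra.smul_def]
        rfl
      have h3 := Fintype.linearIndependent_iff.mp hb _ h2 x.2
      rw [residue_eq_zero_iff] at h3
      obtain ⟨x1, x2⟩ := x
      obtain rfl : x1 = ⟨k, hk⟩ := Fin.ext hx
      exact h3
  rw [Fintype.linearIndependent_iff]
  intro g hg
  by_contra hne
  push Not at hne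
  obtain ⟨x₀, hx₀⟩ := hne
  have : ∀ (n : ℕ) (g : Fin e × ι → A), ∑ x, g x • (b x.2 * ϖ ^ (x.1 : ℕ)) = 0 → g x₀ ∈ maximalIdeal A ^ n := by
    intro n
    induction n with
    | zero => intro g _; simp
    | succ n ih =>
      intro g hg
      have h1 := key g hg
      simp_rw [hA.maximalIdeal_eq, Ideal.mem_span_singleton'] at h1
      choose c hc using h1
      have hc0 : ∑ x, c x • (b x.2 * ϖ ^ (x.1 : ℕ)) = 0 := by
        have h2 : algebraMap A B ϖA * ∑ x, c x • (b x.2 * ϖ ^ (x.1 : ℕ)) = 0 := by
          rw [Finset.mul_sum, ← hg]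
          refine Finset.sum_congr rfl fun x _ => ?_
          rw [← hc x, Algebra.smul_def, Algebra.smul_def, map_mul]
          ring
        exact (mul_eq_zero.mp h2).resolve_left fun h => hA.ne_zero (hinj (by rw [h, map_zero]))
      rw [← hc x₀, pow_succ]
      exact Ideal.mul_mem_mul (ih c hc0) hA.not_isUnit
  refine hx₀ ?_
  have h := Ideal.iInf_pow_eq_bot_of_isLocalRing (maximalIdeal A) (maximalIdeal.isMaximal A).ne_top
  rw [← Ideal.mem_bot, ← h, Submodule.mem_iInf]
  exact fun n => this n g hg


open IsLocalRing in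
theorem linearIndependent_pow {A B : Type u} [CommRing A] [IsDomain A] [IsDiscreteValuationRing A]
    [CommRing B] [IsDomain B] [IsDiscreteValuationRing B] [Algebra A B] [IsLocalHom (algebraMap A B)]
    (hinj : Function.Injective (algebraMap A B)) {ϖ : B} (hϖ : Irreducible ϖ) :
    LinearIndependent A (fun i : Fin (Ideal.ramificationIdx' (maximalIdeal A) (maximalIdeal B)) => ϖ ^ (i : ℕ)) := by
  have hb : LinearIndependent (ResidueField A) (fun _ : PUnit.{u + 1} => residue B (1 : B)) :=
    LinearIndependent.of_subsingleton PUnit.unit (by rw [map_one]; exact one_ne_zero)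
  have h := (linearIndependent_mul_pow hinj (fun _ => (1 : B)) hb hϖ).comp (fun i => (i, PUnit.unit))
    fun _ _ e => congrArg Prod.fst e
  simpa [Function.comp_def] using h

end GrothLib.DVRExt
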