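import Groth.Agent.Lib.DVRExt.Compositum
import Groth.Agent.Lib.DVRDom.KrullAkizuki
import Mathlib.NumberTheory.RamificationInertia.Ramification
import Mathlib.RingTheory.DedekindDomain.IntegralClosure
import Mathlib.RingTheory.Valuation.ValuationSubring

/-!
# Ramification in extensions of discrete valuation rings
-/

set_option autoImplicit false
set_option linter.unusedSectionVars false
universe u

open IsLocalRing

namespace GrothLib.DVRExt

section Basic

variable {A B : Type u} [CommRing A] [IsDomain A] [IsDiscreteValuationRing A]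
  [CommRing B] [IsDomain B] [IsDiscreteValuationRing B] [Algebra A B] [IsLocalHom (algebraMap A B)]

theorem maximalIdeal_pow_inj {m n : ℕ} (h : maximalIdeal B ^ m = maximalIdeal B ^ n) : m = n := by
  obtain ⟨ϖ, hϖ⟩ := IsDiscreteValuationRing.exists_irreducible B
  rw [hϖ.maximalIdeal_eq, Ideal.span_singleton_pow, Ideal.span_singleton_pow,
    Ideal.span_singleton_eq_span_singleton] at h
  exact le_antisymm ((pow_dvd_pow_iff hϖ.ne_zero hϖ.not_isUnit).mp h.dvd)
    ((pow_dvd_pow_iff hϖ.ne_zero hϖ.not_isUnit).mp h.symm.dvd)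

theorem map_maximalIdeal_eq_pow (hinj : Function.Injective (algebraMap A B)) :
    0 < Ideal.ramificationIdx' (maximalIdeal A) (maximalIdeal B) ∧
      (maximalIdeal A).map (algebraMap A B) =
        maximalIdeal B ^ Ideal.ramificationIdx' (maximalIdeal A) (maximalIdeal B) := by
  obtain ⟨ϖ, hϖ⟩ := IsDiscreteValuationRing.exists_irreducible B
  have hne : (maximalIdeal A).map (algebraMap A B) ≠ ⊥ := by
    rw [Ne, Ideal.map_eq_bot_iff_of_injective hinj]
    exact IsDiscreteValuationRing.not_a_field A
  have hle : (maximalIdeal A).map (algebraMap A B) ≤ maximalIdeal B :=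
    ((local_hom_TFAE (algebraMap A B)).out 0 2 rfl rfl).mp inferInstance
  obtain ⟨e, he⟩ := IsDiscreteValuationRing.ideal_eq_span_pow_irreducible hne hϖ
  rw [← Ideal.span_singleton_pow, ← hϖ.maximalIdeal_eq] at he
  have he0 : e ≠ 0 := by
    rintro rfl
    rw [pow_zero, Ideal.one_eq_top] at he
    exact (maximalIdeal.isMaximal B).ne_top (top_le_iff.mp (he ▸ hle))
  have hspec : Ideal.ramificationIdx' (maximalIdeal A) (maximalIdeal B) = e := by
    refine Ideal.ramificationIdx'_spec he.le fun h => ?_
    rw [he] at h
    have := le_antisymm h (Ideal.pow_le_pow_right (Nat.le_succ e))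
    exact absurd (maximalIdeal_pow_inj this) (by omega)
  rw [hspec]
  exact ⟨Nat.pos_of_ne_zero he0, he⟩

variable {C : Type u} [CommRing C] [IsDomain C] [IsDiscreteValuationRing C] [Algebra B C] [Algebra A C]
  [IsScalarTower A B C] [IsLocalHom (algebraMap B C)] [IsLocalHom (algebraMap A C)]

theorem ramificationIdx_tower (hAB : Function.Injective (algebraMap A B))
    (hBC : Function.Injective (algebraMap B C)) :
    Ideal.ramificationIdx' (maximalIdeal A) (maximalIdeal C) =
      Ideal.ramificationIdx' (maximalIdeal A) (maximalIdeal B) *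
        Ideal.ramificationIdx' (maximalIdeal B) (maximalIdeal C) := by
  have hAC : Function.Injective (algebraMap A C) := by
    rw [IsScalarTower.algebraMap_eq A B C]; exact hBC.comp hAB
  have h1 := (map_maximalIdeal_eq_pow (A := A) (B := C) hAC).2
  rw [IsScalarTower.algebraMap_eq A B C, ← Ideal.map_map, (map_maximalIdeal_eq_pow hAB).2, Ideal.map_pow,
    (map_maximalIdeal_eq_pow hBC).2, ← pow_mul] at h1
  rw [maximalIdeal_pow_inj h1.symm, mul_comm]

theorem weaklyUnramified_iff (hinj : Function.Injective (algebraMap A B)) :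
    (maximalIdeal A).map (algebraMap A B) = maximalIdeal B ↔
      Ideal.ramificationIdx' (maximalIdeal A) (maximalIdeal B) = 1 := by
  constructor
  · intro h
    have h1 := (map_maximalIdeal_eq_pow hinj).2
    rw [h] at h1
    exact (maximalIdeal_pow_inj (B := B) (m := 1) (by rw [pow_one]; exact h1)).symm
  · intro h
    rw [(map_maximalIdeal_eq_pow hinj).2, h, pow_one]

end Basic

section Subrings

variable (A : Type u) [CommRing A] [IsDomain A] [IsDiscreteValuationRing A] (K : Type u) [Field K]
  [Algebra A K] [IsFractionRing A K] (L : Type u) [Field L] [Algebra K L] [FiniteDimensional K L]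
  [Algebra.IsSeparable K L]

theorem dominates_algebra (V : ValuationSubring L)
    (h : EtRam.Dominates A ((algebraMap K L).comp (algebraMap A K)) V) :
    IsDiscreteValuationRing V ∧
      Function.Injective (((algebraMap K L).comp (algebraMap A K)).codRestrict V.toSubring h.1) ∧
      IsLocalHom (((algebraMap K L).comp (algebraMap A K)).codRestrict V.toSubring h.1) := by
  have hinjL : Function.Injective ((algebraMap K L).comp (algebraMap A K)) :=
    (algebraMap K L).injective.comp (IsFractionRing.injective A K)
  refine ⟨?_, fun x y hxy => hinjL (congrArg Subtype.val hxy), ⟨fun a ha => ?_⟩⟩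
  · let _ : Algebra A L := ((algebraMap K L).comp (algebraMap A K)).toAlgebra
    have : IsScalarTower A K L := .of_algebraMap_eq' rfl
    have : IsDedekindDomain (integralClosure A L) := IsIntegralClosure.isDedekindDomain A K L _
    have : IsFractionRing (integralClosure A L) L := integralClosure.isFractionRing_of_finite_extension K L
    refine GrothLib.DVRDom.isDiscreteValuationRing_valuationSubring (R := integralClosure A L) V (fun r => ?_) ?_
    · obtain ⟨p, hp, hp0⟩ := r.2
      by_contra hr
      have hinv : (r : L)⁻¹ ∈ V := (V.mem_or_inv_mem _).resolve_left hr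
      have hr0 : (r : L) ≠ 0 := fun h0 => hr (show (r : L) ∈ V by rw [h0]; exact V.zero_mem)
      refine hr ?_
      have hint : IsIntegral V (r : L) := by
        refine ⟨p.map (((algebraMap K L).comp (algebraMap A K)).codRestrict V.toSubring h.1), hp.map _, ?_⟩
        rw [Polynomial.eval₂_map]; exact hp0
      obtain ⟨v, hv⟩ := IsIntegrallyClosed.isIntegral_iff.mp hint
      show (r : L) ∈ V
      rw [← hv]; exact v.2
    · rintro rfl
      obtain ⟨ϖ, hϖ⟩ := IsDiscreteValuationRing.exists_irreducible A
      have h1 := h.2 ϖ hϖ.not_isUnit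
      have h0 : (⊤ : ValuationSubring L).valuation ((algebraMap K L).comp (algebraMap A K) ϖ) ≠ 0 := by
        rw [Valuation.ne_zero_iff]
        exact fun h => hϖ.ne_zero (hinjL (by rw [h, map_zero]))
      have h2 : (⊤ : ValuationSubring L).valuation (((algebraMap K L).comp (algebraMap A K) ϖ)⁻¹) ≤ 1 :=
        ((⊤ : ValuationSubring L).valuation_le_one_iff _).mpr trivial
      rw [map_inv₀] at h2
      exact absurd (mul_inv_cancel₀ h0) ((mul_le_mul' le_rfl h2).trans_lt (by rwa [mul_one])).ne
  · by_contra hu
    exact ((V.valuation_eq_one_iff _).mp ha).not_lt (h.2 a hu)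

variable {L}
variable (M : Type u) [Field M] [Algebra K M] [Algebra L M] [IsScalarTower K L M]

theorem dominates_comap (W : ValuationSubring M)
    (h : EtRam.Dominates A ((algebraMap K M).comp (algebraMap A K)) W) :
    EtRam.Dominates A ((algebraMap K L).comp (algebraMap A K)) (W.comap (algebraMap L M)) := by
  refine ⟨fun a => ?_, fun a ha => ?_⟩
  · show algebraMap L M _ ∈ W
    rw [RingHom.comp_apply, ← IsScalarTower.algebraMap_apply]
    exact h.1 a
  · have h1 := h.2 a ha
    rw [RingHom.comp_apply, IsScalarTower.algebraMap_apply K L M] at h1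
    have hmem : algebraMap K L (algebraMap A K a) ∈ W.comap (algebraMap L M) := by
      show algebraMap L M _ ∈ W
      exact (W.valuation_le_one_iff _).mp h1.le
    refine ((W.comap (algebraMap L M)).valuation_lt_one_iff ⟨_, hmem⟩).mp fun hu => ?_
    exact ((W.valuation_eq_one_iff _).mp (hu.map (EtRam.inclOfComap W (algebraMap L M)))).not_lt h1

theorem exists_extension (V : ValuationSubring L)
    (h : EtRam.Dominates A ((algebraMap K L).comp (algebraMap A K)) V) :
    ∃ W : ValuationSubring M, EtRam.Dominates A ((algebraMap K M).comp (algebraMap A K)) W ∧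
      W.comap (algebraMap L M) = V := by
  obtain ⟨W, hW, hWloc⟩ := IsLocalRing.exists_factor_valuationRing ((algebraMap L M).comp V.subtype)
  have hlt : ∀ x : V, x ∈ maximalIdeal V → W.valuation (algebraMap L M (x : L)) < 1 := fun x hx =>
    (W.valuation_lt_one_iff ⟨_, hW x⟩).mp fun hu => hx (hWloc.map_nonunit _ hu)
  have hVW : W.comap (algebraMap L M) = V := by
    refine mem_of_dominated (fun x hx => hW ⟨x, hx⟩) fun x hx => ?_
    refine lt_of_le_of_ne (((W.comap (algebraMap L M)).valuation_le_one_iff _).mpr (hW x)) fun h1 => ?_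
    have hu : IsUnit (⟨(x : L), hW x⟩ : W.comap (algebraMap L M)) :=
      ((W.comap (algebraMap L M)).valuation_eq_one_iff ⟨_, hW x⟩).mpr h1
    exact ((W.valuation_eq_one_iff _).mp (hu.map (EtRam.inclOfComap W (algebraMap L M)))).not_lt (hlt x hx)
  refine ⟨W, ⟨fun a => ?_, fun a ha => ?_⟩, hVW⟩
  · rw [RingHom.comp_apply, IsScalarTower.algebraMap_apply K L M]
    exact hW ⟨_, h.1 a⟩
  · rw [RingHom.comp_apply, IsScalarTower.algebraMap_apply K L M]
    exact hlt ⟨_, h.1 a⟩ ((V.valuation_lt_one_iff ⟨_, h.1 a⟩).mpr (h.2 a ha))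

end Subrings

end GrothLib.DVRExt
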