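import Groth.Agent.Lib.DVRExt.Ramification
import Mathlib.RingTheory.Nakayama

/-!
# Totally ramified extensions of a discrete valuation ring
-/

set_option autoImplicit false
set_option linter.unusedSectionVars false
universe u

open IsLocalRing

namespace GrothLib.DVRExt

variable {A : Type u} [CommRing A] [IsDomain A] [IsDiscreteValuationRing A] {K : Type u} [Field K]
  [Algebra A K] [IsFractionRing A K] {K₁ : Type u} [Field K₁] [Algebra K K₁] [FiniteDimensional K K₁]
  [Algebra.IsSeparable K K₁]

theorem isIntegral_of_mem_of_unique (V : ValuationSubring K₁)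
    (huniq : ∀ V', EtRam.Dominates A ((algebraMap K K₁).comp (algebraMap A K)) V' → V' = V)
    [Algebra A K₁] [IsScalarTower A K K₁] {z : K₁} (hz : z ∈ V) : IsIntegral A z := by
  by_contra hnot
  have hz' : z ∉ (integralClosure A K₁).toSubring := hnot
  obtain ⟨V', hV', hzV'⟩ := Subring.exists_le_valuationSubring_of_isIntegrallyClosedIn hz'
  have hA : ∀ a : A, algebraMap K K₁ (algebraMap A K a) ∈ V' := fun a => by
    rw [← IsScalarTower.algebraMap_apply]
    exact hV' (show algebraMap A K₁ a ∈ (integralClosure A K₁).toSubring from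
      (integralClosure A K₁).algebraMap_mem a)
  by_cases hdom : ∀ a : A, a ∈ maximalIdeal A → V'.valuation (algebraMap K K₁ (algebraMap A K a)) < 1
  · exact hzV' (huniq V' ⟨hA, hdom⟩ ▸ hz)
  · push Not at hdom
    obtain ⟨a, ha, hva⟩ := hdom
    obtain ⟨ϖ, hϖ⟩ := IsDiscreteValuationRing.exists_irreducible A
    have hinvϖ : (algebraMap K K₁ (algebraMap A K ϖ))⁻¹ ∈ V' := by
      rw [hϖ.maximalIdeal_eq, Ideal.mem_span_singleton] at ha
      obtain ⟨c, rfl⟩ := ha
      rw [← V'.valuation_le_one_iff, map_inv₀]
      rw [map_mul, map_mul, map_mul] at hva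
      exact inv_le_one_of_one_le₀ (hva.trans (mul_le_of_le_one_right' ((V'.valuation_le_one_iff _).mpr (hA c))))
    have hK : ∀ k : K, algebraMap K K₁ k ∈ V' := by
      intro k
      rcases eq_or_ne k 0 with rfl | hk
      · rw [map_zero]; exact V'.zero_mem
      rcases ValuationRing.isInteger_or_isInteger A k with ⟨x, hx⟩ | ⟨x, hx⟩
      · exact hx ▸ hA x
      · have hx0 : x ≠ 0 := by
          rintro rfl
          rw [map_zero] at hx
          exact inv_ne_zero hk hx.symm
        obtain ⟨m, u, rfl⟩ := IsDiscreteValuationRing.eq_unit_mul_pow_irreducible hx0 hϖ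
        have hk' : k = algebraMap A K ↑u⁻¹ * ((algebraMap A K ϖ)⁻¹) ^ m := by
          rw [← inv_inv k, ← hx, map_mul, map_pow, mul_inv, inv_pow, map_units_inv]
        rw [hk', map_mul, map_pow, map_inv₀]
        exact mul_mem (hA _) (pow_mem hinvϖ m)
    have hint : IsIntegral V' z := by
      obtain ⟨p, hp, hp0⟩ := Algebra.IsIntegral.isIntegral (R := K) z
      refine ⟨p.map ((algebraMap K K₁).codRestrict V'.toSubring hK), hp.map _, ?_⟩
      rw [Polynomial.eval₂_map]; exact hp0
    obtain ⟨v, hv⟩ := IsIntegrallyClosed.isIntegral_iff.mp hint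
    exact hzV' (hv ▸ v.2)

theorem finrank_le_ramificationIdx (V : ValuationSubring K₁)
    (ht : EtRam.IsTotallyRamified A ((algebraMap K K₁).comp (algebraMap A K)))
    (h : EtRam.Dominates A ((algebraMap K K₁).comp (algebraMap A K)) V) :
    letI : Algebra A V := (((algebraMap K K₁).comp (algebraMap A K)).codRestrict V.toSubring h.1).toAlgebra
    Module.finrank K K₁ ≤ Ideal.ramificationIdx' (maximalIdeal A) (maximalIdeal V) := by
  let _ : Algebra A V := (((algebraMap K K₁).comp (algebraMap A K)).codRestrict V.toSubring h.1).toAlgebra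
  let _ : Algebra A K₁ := ((algebraMap K K₁).comp (algebraMap A K)).toAlgebra
  have : IsScalarTower A K K₁ := .of_algebraMap_eq' rfl
  obtain ⟨hdvr, hinj, hloc⟩ := dominates_algebra A K K₁ V h
  have : IsLocalHom (algebraMap A V) := hloc
  have hres : Function.Surjective fun a : A => residue V (algebraMap A V a) := ht.2.2 V h
  obtain ⟨-, he⟩ := map_maximalIdeal_eq_pow (A := A) (B := V) hinj
  generalize Ideal.ramificationIdx' (maximalIdeal A) (maximalIdeal V) = e at he ⊢
  obtain ⟨ϖ, hϖ⟩ := IsDiscreteValuationRing.exists_irreducible V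
  obtain ⟨ϖA, hA⟩ := IsDiscreteValuationRing.exists_irreducible A
  let ι : V →ₗ[A] K₁ :=
    { toFun := Subtype.val, map_add' := fun _ _ => rfl,
      map_smul' := fun r v => by rw [Algebra.smul_def, Algebra.smul_def]; rfl }
  let N : Submodule A V := Submodule.span A (Set.range fun i : Fin e => ϖ ^ (i : ℕ))
  have hfinV : Module.Finite A V := by
    have : Module.Finite A (integralClosure A K₁) := IsIntegralClosure.finite A K K₁ _
    let ι' : V →ₗ[A] integralClosure A K₁ := ι.codRestrict (Subalgebra.toSubmodule (integralClosure A K₁))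
      fun v => isIntegral_of_mem_of_unique V (fun V' h' => ht.2.1 V' V h' h) v.2
    exact Module.Finite.of_injective ι' fun x y hxy => Subtype.ext (congrArg Subtype.val hxy : ((ι' x : integralClosure A K₁) : K₁) = (ι' y : integralClosure A K₁))
  have hstep : ∀ j : ℕ, ∀ v : V, v ∈ maximalIdeal V ^ j →
      v ∈ N ⊔ (maximalIdeal A • ⊤ : Submodule A V) := by
    intro j
    induction hj : e - j using Nat.strong_induction_on generalizing j with
    | _ d ih =>
      intro v hv
      by_cases hje : e ≤ j
      · have h1 : v ∈ (maximalIdeal A).map (algebraMap A V) := he ▸ Ideal.pow_le_pow_right hje hv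
        refine Submodule.mem_sup_right ?_
        rw [Ideal.smul_top_eq_map]
        exact h1
      · push Not at hje
        rw [hϖ.maximalIdeal_eq, Ideal.span_singleton_pow, Ideal.mem_span_singleton] at hv
        obtain ⟨w, rfl⟩ := hv
        obtain ⟨a, ha⟩ := hres (residue V w)
        have hw : w - algebraMap A V a ∈ maximalIdeal V := Ideal.Quotient.eq.mp ha.symm
        have h2 := ih (e - (j + 1)) (by omega) (j + 1) rfl (ϖ ^ j * (w - algebraMap A V a)) (by
          rw [pow_succ]
          exact Ideal.mul_mem_mul (Ideal.pow_mem_pow hϖ.not_isUnit j) hw)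
        have h3 : ϖ ^ j * algebraMap A V a ∈ N := by
          rw [mul_comm, ← Algebra.smul_def]
          exact N.smul_mem a (Submodule.subset_span ⟨⟨j, hje⟩, rfl⟩)
        have h4 := Submodule.add_mem _ h2 (Submodule.mem_sup_left (T := (maximalIdeal A • ⊤ : Submodule A V)) h3)
        rwa [← mul_add, sub_add_cancel] at h4
  have htop : N = ⊤ := by
    refine top_le_iff.mp (Submodule.le_of_le_smul_of_le_jacobson_bot hfinV.fg_top
      (IsLocalRing.maximalIdeal_le_jacobson _) fun v _ => hstep 0 v (by simp))
  have hspan : Submodule.span K (Set.range fun i : Fin e => ((ϖ ^ (i : ℕ) : V) : K₁)) = ⊤ := by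
    refine top_le_iff.mp fun z _ => ?_
    have hV : ∀ v : V, (v : K₁) ∈ Submodule.span K (Set.range fun i : Fin e => ((ϖ ^ (i : ℕ) : V) : K₁)) := by
      intro v
      have hv : v ∈ N := htop ▸ Submodule.mem_top
      induction hv using Submodule.span_induction with
      | mem x hx => obtain ⟨i, rfl⟩ := hx; exact Submodule.subset_span ⟨i, rfl⟩
      | zero => exact zero_mem _
      | add x y _ _ hx hy => exact add_mem hx hy
      | smul a x _ hx =>
        rw [show ((a • x : V) : K₁) = algebraMap A K a • (x : K₁) by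
          rw [Algebra.smul_def, Algebra.smul_def]; rfl]
        exact Submodule.smul_mem _ _ hx
    have : Algebra.IsAlgebraic A K₁ := (IsFractionRing.comap_isAlgebraic_iff (A := A) (K := K) (C := K₁)).mpr
      (Algebra.IsAlgebraic.of_finite K K₁)
    obtain ⟨a, ha0, ha⟩ := (Algebra.IsAlgebraic.isAlgebraic (R := A) z).exists_integral_multiple
    have hmem : a • z ∈ V := by
      obtain ⟨p, hp, hp0⟩ := ha
      have hint : IsIntegral V (a • z) := by
        refine ⟨p.map (algebraMap A V), hp.map _, ?_⟩
        rw [Polynomial.eval₂_map]; exact hp0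
      obtain ⟨v, hv⟩ := IsIntegrallyClosed.isIntegral_iff.mp hint
      rw [← hv]; exact v.2
    have h5 := hV ⟨_, hmem⟩
    rw [show ((⟨a • z, hmem⟩ : V) : K₁) = algebraMap A K a • z from (IsScalarTower.algebraMap_smul K a z).symm] at h5
    exact (Submodule.smul_mem_iff _ (by simpa using ha0)).mp h5
  have := finrank_range_le_card (R := K) fun i : Fin e => ((ϖ ^ (i : ℕ) : V) : K₁)
  rw [Set.finrank, hspan, finrank_top, Fintype.card_fin] at this
  exact this

end GrothLib.DVRExt
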