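import Groth.Agent.Lib.DVRExt.Ramification
import Groth.Agent.Lib.PseudoCompl.Basic
import Mathlib.RingTheory.Artinian.Ring
import Mathlib.RingTheory.LocalProperties.Reduced
import Mathlib.LinearAlgebra.TensorProduct.RightExactness
import Mathlib.RingTheory.Algebraic.Integral

/-!
# Base change of weakly unramified extensions with geometrically reduced residue extension
-/

set_option autoImplicit false
set_option linter.unusedSectionVars false
universe u

open TensorProduct IsLocalRing

namespace GrothLib.DVRExt

theorem isField_localization_of_reduced_artinian (T : Type u) [CommRing T] [IsArtinianRing T] [IsReduced T]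
    (P : Ideal T) [P.IsPrime] : IsField (Localization.AtPrime P) := by
  have : IsReduced (Localization.AtPrime P) :=
    isReduced_localizationPreserves P.primeCompl _ inferInstance
  exact IsArtinianRing.isField_of_isReduced_of_isLocalRing _

section Core

variable {A B V W : Type u} [CommRing A] [IsLocalRing A] [CommRing B] [IsLocalRing B]
  [CommRing V] [IsLocalRing V] [CommRing W] [IsLocalRing W]
  [Algebra A B] [Algebra A V] [Algebra A W] [Algebra B W] [Algebra V W]
  [IsScalarTower A B W] [IsScalarTower A V W]
  [IsLocalHom (algebraMap A B)] [IsLocalHom (algebraMap A V)] [IsLocalHom (algebraMap B W)]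
  [IsLocalHom (algebraMap V W)] [IsLocalHom (algebraMap A W)]
  [Algebra.IsGeometricallyReduced (ResidueField A) (ResidueField B)]
  [Module.Finite (ResidueField A) (ResidueField V)]

variable (A B V W) in
/-- The canonical map `V ⊗[A] B → W`. -/
noncomputable def toTop : V ⊗[A] B →ₐ[V] W :=
  Algebra.TensorProduct.lift (Algebra.ofId V W) (IsScalarTower.toAlgHom A B W) fun _ _ => mul_comm _ _

variable (A B V W) in
/-- The canonical map `kV ⊗[kA] kB → kW`. -/
noncomputable def toTopResidue :
    ResidueField V ⊗[ResidueField A] ResidueField B →ₐ[ResidueField V] ResidueField W :=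
  have : IsScalarTower (ResidueField A) (ResidueField V) (ResidueField W) := .of_algebraMap_eq fun r => by
    obtain ⟨a, rfl⟩ := residue_surjective r
    exact congrArg (residue W) (IsScalarTower.algebraMap_apply A V W a)
  have : IsScalarTower (ResidueField A) (ResidueField B) (ResidueField W) := .of_algebraMap_eq fun r => by
    obtain ⟨a, rfl⟩ := residue_surjective r
    exact congrArg (residue W) (IsScalarTower.algebraMap_apply A B W a)
  Algebra.TensorProduct.lift (Algebra.ofId (ResidueField V) (ResidueField W))
    (IsScalarTower.toAlgHom (ResidueField A) (ResidueField B) (ResidueField W)) fun _ _ => mul_comm _ _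

theorem toTopResidue_tmul (v : ResidueField V) (b : ResidueField B) :
    toTopResidue A B V W (v ⊗ₜ b) = algebraMap (ResidueField V) (ResidueField W) v * algebraMap (ResidueField B) (ResidueField W) b := by
  unfold toTopResidue
  exact Algebra.TensorProduct.lift_tmul _ _ _ v b

theorem toTop_tmul (v : V) (b : B) :
    toTop A B V W (v ⊗ₜ b) = algebraMap V W v * algebraMap B W b := by
  unfold toTop
  exact Algebra.TensorProduct.lift_tmul _ _ _ v b

variable (A B V) in
/-- The canonical map `V ⊗[A] B → kV ⊗[kA] kB`. -/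
noncomputable def redMap : V ⊗[A] B →ₐ[A] ResidueField V ⊗[ResidueField A] ResidueField B :=
  Algebra.TensorProduct.lift
    (((Algebra.TensorProduct.includeLeft (R := ResidueField A) (S := ResidueField A)
      (B := ResidueField B)).restrictScalars A).comp (IsScalarTower.toAlgHom A V (ResidueField V)))
    (((Algebra.TensorProduct.includeRight (R := ResidueField A)
      (A := ResidueField V)).restrictScalars A).comp (IsScalarTower.toAlgHom A B (ResidueField B)))
    fun _ _ => mul_comm _ _

theorem redMap_tmul (v : V) (b : B) : redMap A B V (v ⊗ₜ b) = residue V v ⊗ₜ residue B b := by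
  refine (Algebra.TensorProduct.lift_tmul ..).trans ?_
  show ((residue V v ⊗ₜ[ResidueField A] (1 : ResidueField B)) * (1 ⊗ₜ[ResidueField A] residue B b)) = _
  rw [Algebra.TensorProduct.tmul_mul_tmul, mul_one, one_mul]

theorem redMap_surjective : Function.Surjective (redMap A B V) := by
  intro z
  induction z with
  | zero => exact ⟨0, map_zero _⟩
  | tmul v b =>
    obtain ⟨v, rfl⟩ := residue_surjective v
    obtain ⟨b, rfl⟩ := residue_surjective b
    exact ⟨v ⊗ₜ b, redMap_tmul v b⟩
  | add x y hx hy =>
    obtain ⟨x, rfl⟩ := hx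
    obtain ⟨y, rfl⟩ := hy
    exact ⟨x + y, map_add _ _ _⟩

theorem residue_toTop (t : V ⊗[A] B) :
    residue W (toTop A B V W t) = toTopResidue A B V W (redMap A B V t) := by
  induction t with
  | zero => simp
  | tmul v b => rw [toTop_tmul, redMap_tmul, toTopResidue_tmul, map_mul]; rfl
  | add x y hx hy => simp [hx, hy]

/-- The kernel of the reduction is generated by the maximal ideal of `V`. -/
theorem mem_span_of_redMap_eq_zero (hB : (maximalIdeal A).map (algebraMap A B) = maximalIdeal B)
    {t : V ⊗[A] B} (ht : redMap A B V t = 0) :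
    t ∈ (maximalIdeal V).map (algebraMap V (V ⊗[A] B)) := by
  let f : V →ₐ[A] ResidueField V := IsScalarTower.toAlgHom A V (ResidueField V)
  let g : B →ₐ[A] ResidueField B := IsScalarTower.toAlgHom A B (ResidueField B)
  have hc : TensorProduct.CompatibleSMul A (ResidueField A) (ResidueField V) (ResidueField B) := ⟨fun r m n => by
    obtain ⟨a, rfl⟩ := residue_surjective r
    rw [show residue A a = algebraMap A (ResidueField A) a from rfl, algebraMap_smul, algebraMap_smul,
      TensorProduct.smul_tmul]⟩
  let e : ResidueField V ⊗[ResidueField A] ResidueField B ≃ₐ[A] ResidueField V ⊗[A] ResidueField B :=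
    Algebra.TensorProduct.equivOfCompatibleSMul A (ResidueField A) A (ResidueField V) (ResidueField B)
  have h1 : Algebra.TensorProduct.map f g t = e (redMap A B V t) := by
    clear ht
    induction t with
    | zero => simp
    | tmul v b => rw [redMap_tmul]; rfl
    | add x y hx hy => simp [hx, hy]
  have h2 : t ∈ RingHom.ker (Algebra.TensorProduct.map f g) := by
    rw [RingHom.mem_ker, h1, ht, map_zero]
  rw [Algebra.TensorProduct.map_ker f g residue_surjective residue_surjective] at h2
  refine (sup_le ?_ ?_ :
    _ ≤ (maximalIdeal V).map (algebraMap V (V ⊗[A] B))) h2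
  · refine Ideal.map_le_iff_le_comap.mpr fun v hv => ?_
    have hv' : v ∈ maximalIdeal V := (residue_eq_zero_iff v).mp hv
    exact Ideal.mem_map_of_mem (algebraMap V (V ⊗[A] B)) hv'
  · refine Ideal.map_le_iff_le_comap.mpr fun b hb => ?_
    have hb' : b ∈ (maximalIdeal A).map (algebraMap A B) := hB ▸ (residue_eq_zero_iff b).mp hb
    refine (Ideal.map_le_iff_le_comap.mpr ?_ : (maximalIdeal A).map (algebraMap A B) ≤ _) hb'
    intro a ha
    show (1 : V) ⊗ₜ[A] algebraMap A B a ∈ (maximalIdeal V).map (algebraMap V (V ⊗[A] B))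
    rw [← Algebra.TensorProduct.tmul_one_eq_one_tmul]
    exact Ideal.mem_map_of_mem (algebraMap V (V ⊗[A] B)) fun hu => ha (IsUnit.of_map (algebraMap A V) a hu)

variable [IsDomain W] [IsDomain V] [IsDiscreteValuationRing V]

theorem exists_eq_smul (hB : (maximalIdeal A).map (algebraMap A B) = maximalIdeal B) {ϖ : V}
    (hϖ : Irreducible ϖ) (t : V ⊗[A] B) (ht : toTop A B V W t ∈ maximalIdeal W) :
    ∃ s y : V ⊗[A] B, IsUnit (toTop A B V W s) ∧ toTop A B V W s * toTop A B V W t =
      algebraMap V W ϖ * toTop A B V W y := by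
  have := PseudoCompl.isGeometricallyReduced_baseChange (ResidueField A) (ResidueField V) (ResidueField B)
  have hred : IsReduced (ResidueField V ⊗[ResidueField A] ResidueField B) :=
    Algebra.isReduced_of_isGeometricallyReduced (ResidueField V)
  have : Module.Finite (ResidueField B) (ResidueField B ⊗[ResidueField A] ResidueField V) := inferInstance
  have : IsArtinianRing (ResidueField B ⊗[ResidueField A] ResidueField V) :=
    IsArtinianRing.of_finite (ResidueField B) _
  have : IsArtinianRing (ResidueField V ⊗[ResidueField A] ResidueField B) :=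
    (Algebra.TensorProduct.comm (ResidueField A) (ResidueField B) (ResidueField V)).toRingEquiv.isArtinianRing
  let P := RingHom.ker (toTopResidue A B V W)
  have : P.IsPrime := RingHom.ker_isPrime _
  have hP : redMap A B V t ∈ P := by
    show toTopResidue A B V W (redMap A B V t) = 0
    rw [← residue_toTop, residue_eq_zero_iff]
    exact ht
  have h0 : algebraMap _ (Localization.AtPrime P) (redMap A B V t) = 0 := by
    by_contra h
    letI := (isField_localization_of_reduced_artinian _ P).toField
    exact ((IsLocalization.AtPrime.isUnit_to_map_iff (Localization.AtPrime P) P _).mp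
      (isUnit_iff_ne_zero.mpr h)) hP
  obtain ⟨⟨c, hc⟩, hc0⟩ := (IsLocalization.map_eq_zero_iff P.primeCompl _ _).mp h0
  obtain ⟨s, rfl⟩ := redMap_surjective c
  rw [← map_mul] at hc0
  have h1 := mem_span_of_redMap_eq_zero hB hc0
  rw [hϖ.maximalIdeal_eq, Ideal.map_span, Set.image_singleton, Ideal.mem_span_singleton'] at h1
  obtain ⟨y, hy⟩ := h1
  refine ⟨s, y, ?_, ?_⟩
  · rw [← residue_ne_zero_iff_isUnit, residue_toTop]
    exact hc
  · rw [← map_mul, ← hy, map_mul, AlgHom.commutes, mul_comm]

theorem eq_pow_mul (hB : (maximalIdeal A).map (algebraMap A B) = maximalIdeal B) {ϖ : V}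
    (hϖ : Irreducible ϖ) (hbound : ∀ t : V ⊗[A] B, toTop A B V W t ≠ 0 → ∃ N, ¬ algebraMap V W ϖ ^ N ∣ toTop A B V W t)
    (t : V ⊗[A] B) (ht : toTop A B V W t ≠ 0) :
    ∃ (n : ℕ) (a b : V ⊗[A] B), IsUnit (toTop A B V W a) ∧ IsUnit (toTop A B V W b) ∧
      toTop A B V W t * toTop A B V W a = algebraMap V W ϖ ^ n * toTop A B V W b := by
  obtain ⟨N, hN⟩ := hbound t ht
  suffices ∀ N, ∀ t : V ⊗[A] B, ¬ algebraMap V W ϖ ^ N ∣ toTop A B V W t →
      ∃ (n : ℕ) (a b : V ⊗[A] B), IsUnit (toTop A B V W a) ∧ IsUnit (toTop A B V W b) ∧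
      toTop A B V W t * toTop A B V W a = algebraMap V W ϖ ^ n * toTop A B V W b from this N t hN
  intro N
  induction N with
  | zero => intro t ht; exact absurd (by rw [pow_zero]; exact one_dvd _) ht
  | succ N ih =>
    intro t ht
    by_cases hu : toTop A B V W t ∈ maximalIdeal W
    · obtain ⟨s, y, hs, hsy⟩ := exists_eq_smul hB hϖ t hu
      have hy : ¬ algebraMap V W ϖ ^ N ∣ toTop A B V W y := by
        rintro ⟨c, hc⟩
        refine ht (hs.dvd_mul_left.mp ⟨c, ?_⟩)
        rw [hsy, hc, pow_succ]
        ring
      obtain ⟨n, a, b, ha, hb, hab⟩ := ih y hy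
      refine ⟨n + 1, s * a, b, by rw [map_mul]; exact hs.mul ha, hb, ?_⟩
      calc toTop A B V W t * toTop A B V W (s * a)
          = toTop A B V W s * toTop A B V W t * toTop A B V W a := by rw [map_mul]; ring
        _ = algebraMap V W ϖ * (toTop A B V W y * toTop A B V W a) := by rw [hsy]; ring
        _ = algebraMap V W ϖ ^ (n + 1) * toTop A B V W b := by rw [hab]; ring
    · exact ⟨0, 1, t, by rw [map_one]; exact isUnit_one, notMem_maximalIdeal.mp hu, by simp⟩

theorem main (hB : (maximalIdeal A).map (algebraMap A B) = maximalIdeal B) {ϖ : V}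
    (hϖ : Irreducible ϖ) (hinj : Function.Injective (algebraMap V W))
    (hbound : ∀ t : V ⊗[A] B, toTop A B V W t ≠ 0 → ∃ N, ¬ algebraMap V W ϖ ^ N ∣ toTop A B V W t)
    (hgen : ∀ z : W, ∃ t s : V ⊗[A] B, toTop A B V W s ≠ 0 ∧ z * toTop A B V W s = toTop A B V W t) :
    (maximalIdeal V).map (algebraMap V W) = maximalIdeal W ∧
      Algebra.IsGeometricallyReduced (ResidueField V) (ResidueField W) := by
  have hϖ0 : algebraMap V W ϖ ≠ 0 := fun h => hϖ.ne_zero (hinj (by rw [h, map_zero]))
  have hϖm : algebraMap V W ϖ ∈ maximalIdeal W := fun hu => hϖ.not_isUnit (IsUnit.of_map (algebraMap V W) ϖ hu)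
  have hform : ∀ z : W, z ≠ 0 → ∃ (n : ℕ) (a b : V ⊗[A] B), IsUnit (toTop A B V W a) ∧ IsUnit (toTop A B V W b) ∧
      z * toTop A B V W a = algebraMap V W ϖ ^ n * toTop A B V W b := by
    intro z hz
    obtain ⟨t, s, hs, hts⟩ := hgen z
    obtain ⟨n, a, b, ha, hb, hab⟩ := eq_pow_mul hB hϖ hbound t (hts ▸ mul_ne_zero hz hs)
    obtain ⟨m, c, d, hc, hd, hcd⟩ := eq_pow_mul hB hϖ hbound s hs
    have h1 : z * toTop A B V W (a * d) * algebraMap V W ϖ ^ m = algebraMap V W ϖ ^ n * toTop A B V W (b * c) := by
      calc z * toTop A B V W (a * d) * algebraMap V W ϖ ^ m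
          = z * toTop A B V W a * (algebraMap V W ϖ ^ m * toTop A B V W d) := by rw [map_mul]; ring
        _ = (z * toTop A B V W s) * toTop A B V W a * toTop A B V W c := by rw [← hcd]; ring
        _ = algebraMap V W ϖ ^ n * toTop A B V W (b * c) := by rw [hts, hab, map_mul]; ring
    rcases le_or_gt m n with hmn | hmn
    · refine ⟨n - m, a * d, b * c, by rw [map_mul]; exact ha.mul hd, by rw [map_mul]; exact hb.mul hc, ?_⟩
      refine mul_right_cancel₀ (pow_ne_zero m hϖ0) ?_
      rw [h1, mul_right_comm, ← pow_add, Nat.sub_add_cancel hmn]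
    · exfalso
      have h2 : z * toTop A B V W (a * d) * algebraMap V W ϖ ^ (m - n) = toTop A B V W (b * c) := by
        refine mul_left_cancel₀ (pow_ne_zero n hϖ0) ?_
        rw [← h1, mul_comm (algebraMap V W ϖ ^ n), mul_assoc, ← pow_add, Nat.sub_add_cancel hmn.le]
      have hu : IsUnit (toTop A B V W (b * c)) := by rw [map_mul]; exact hb.mul hc
      rw [← h2] at hu
      exact hϖm ((isUnit_pow_iff (by omega)).mp (isUnit_of_mul_isUnit_right hu))
  constructor
  · refine le_antisymm (((local_hom_TFAE _).out 0 2 rfl rfl).mp inferInstance) fun z hz => ?_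
    by_cases hz0 : z = 0
    · exact hz0 ▸ Ideal.zero_mem _
    obtain ⟨n, a, b, ha, hb, hab⟩ := hform z hz0
    obtain ⟨n, rfl⟩ : ∃ k, n = k + 1 := by
      refine ⟨n - 1, ?_⟩
      by_contra h
      obtain rfl : n = 0 := by omega
      rw [pow_zero, one_mul] at hab
      exact hz (isUnit_of_mul_isUnit_left (hab ▸ hb : IsUnit (z * toTop A B V W a)))
    refine (Ideal.mul_unit_mem_iff_mem _ ha).mp ?_
    rw [hab]
    exact Ideal.mul_mem_right _ _ (Ideal.pow_mem_of_mem _ (Ideal.mem_map_of_mem _ hϖ.not_isUnit) _ (by omega))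
  · have := PseudoCompl.isGeometricallyReduced_baseChange (ResidueField A) (ResidueField V) (ResidueField B)
    let P := RingHom.ker (toTopResidue A B V W)
    have : P.IsPrime := RingHom.ker_isPrime _
    have := PseudoCompl.isGeometricallyReduced_localization (ResidueField V)
      (ResidueField V ⊗[ResidueField A] ResidueField B) P
    have hred : IsReduced (ResidueField V ⊗[ResidueField A] ResidueField B) :=
      Algebra.isReduced_of_isGeometricallyReduced (ResidueField V)
    have : IsArtinianRing (ResidueField B ⊗[ResidueField A] ResidueField V) :=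
      IsArtinianRing.of_finite (ResidueField B) _
    have : IsArtinianRing (ResidueField V ⊗[ResidueField A] ResidueField B) :=
      (Algebra.TensorProduct.comm (ResidueField A) (ResidueField B) (ResidueField V)).toRingEquiv.isArtinianRing
    have hu : ∀ y : P.primeCompl, IsUnit (toTopResidue A B V W y) := fun y => isUnit_iff_ne_zero.mpr y.2
    let ξ : Localization.AtPrime P →ₐ[ResidueField V] ResidueField W :=
      IsLocalization.liftAlgHom (M := P.primeCompl) (f := toTopResidue A B V W) hu
    have hξ : ∀ x, ξ (algebraMap _ _ x) = toTopResidue A B V W x := fun x => by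
      simp [ξ, IsLocalization.liftAlgHom]
    have hsurj : Function.Surjective ξ := by
      intro r
      obtain ⟨z, rfl⟩ := residue_surjective r
      by_cases hz0 : z = 0
      · exact ⟨0, by rw [map_zero, hz0, map_zero]⟩
      obtain ⟨n, a, b, ha, hb, hab⟩ := hform z hz0
      rcases Nat.eq_zero_or_pos n with rfl | hn
      · rw [pow_zero, one_mul] at hab
        have ha' : redMap A B V a ∈ P.primeCompl := by
          show toTopResidue A B V W (redMap A B V a) ≠ 0
          rw [← residue_toTop]
          exact (residue_ne_zero_iff_isUnit _).mpr ha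
        refine ⟨IsLocalization.mk' _ (redMap A B V b) ⟨_, ha'⟩, ?_⟩
        have h0 : ξ (algebraMap _ _ (redMap A B V a)) ≠ 0 := by rw [hξ]; exact ha'
        refine mul_right_cancel₀ h0 ?_
        rw [← map_mul, IsLocalization.mk'_spec _ _ (⟨_, ha'⟩ : P.primeCompl), hξ, hξ, ← residue_toTop,
          ← residue_toTop, ← hab, map_mul]
      · refine ⟨0, ?_⟩
        rw [map_zero, eq_comm, residue_eq_zero_iff]
        refine (Ideal.mul_unit_mem_iff_mem _ ha).mp ?_
        rw [hab]
        exact Ideal.mul_mem_right _ _ (Ideal.pow_mem_of_mem _ hϖm _ hn)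
    have hinjξ : Function.Injective ξ := by
      letI := (isField_localization_of_reduced_artinian _ P).toField
      exact ξ.toRingHom.injective
    exact Algebra.IsGeometricallyReduced.of_injective (AlgEquiv.ofBijective ξ ⟨hinjξ, hsurj⟩).symm.toAlgHom
      (AlgEquiv.ofBijective ξ ⟨hinjξ, hsurj⟩).symm.injective

end Core

end GrothLib.DVRExt
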